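import Mathlib.GroupTheory.Rank
import Mathlib.GroupTheory.GroupAction.Quotient
import Mathlib.GroupTheory.Sylow

/-!
# Elementary facts on conjugates of elements and subgroups

* `card_carrier_eq_index_centralizer`: the size of a conjugacy class is the index of the centralizer.
* `eq_top_of_forall_conj_mem`: Jordan's lemma, a proper subgroup does not meet every class.
* `exists_sylow_le_centralizer`: a class of size prime to `p` has a Sylow `p`-subgroup in the
  centralizer of its element.
-/

set_option autoImplicit false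

namespace CfsgLib.GroupBasics

variable {G : Type*} [Group G] [Finite G]

/-- The conjugacy class of `x` has the centralizer of `x` as index. -/
theorem card_carrier_eq_index_centralizer (x : G) :
    (ConjClasses.mk x).carrier.ncard = (Subgroup.centralizer ({x} : Set G)).index := by
  rw [← ConjAct.orbit_eq_carrier_conjClasses, ← MulAction.index_stabilizer]
  have h : Nat.card (MulAction.stabilizer (ConjAct G) x) *
      (MulAction.stabilizer (ConjAct G) x).index = Nat.card G :=
    (Subgroup.card_mul_index _).trans (Nat.card_congr ConjAct.ofConjAct.toEquiv)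
  have h' := Subgroup.card_mul_index (Subgroup.centralizer ({x} : Set G))
  rw [Subgroup.nat_card_centralizer_nat_card_stabilizer, ← h] at h'
  have : Finite (ConjAct G) := ‹Finite G›
  exact (Nat.eq_of_mul_eq_mul_left Nat.card_pos h').symm

/-- Jordan's lemma: a subgroup meeting every conjugacy class is the whole group. -/
theorem eq_top_of_forall_conj_mem {H : Subgroup G}
    (h : ∀ g : G, ∃ a : G, a * g * a⁻¹ ∈ H) : H = ⊤ := by
  classical
  by_contra hne
  have : Fintype G := Fintype.ofFinite G
  have : Fintype (G ⧸ H) := Fintype.ofFinite _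
  have hone : ∀ g : G, 1 ≤ Nat.card (MulAction.fixedBy (G ⧸ H) g) := by
    intro g
    obtain ⟨a, ha⟩ := h g
    have : Nonempty (MulAction.fixedBy (G ⧸ H) g) := ⟨⟨((a⁻¹ : G) : G ⧸ H), by
      rw [MulAction.mem_fixedBy, MulAction.Quotient.smul_coe, QuotientGroup.eq, smul_eq_mul]
      have := H.inv_mem ha
      convert this using 1
      group⟩⟩
    exact Nat.card_pos
  have : Fintype (MulAction.orbitRel.Quotient G (G ⧸ H)) := Fintype.ofFinite _
  have hsum := MulAction.sum_card_fixedBy_eq_card_orbits_mul_card_group G (G ⧸ H)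
  simp only [← Nat.card_eq_fintype_card] at hsum
  have horb : Nat.card (MulAction.orbitRel.Quotient G (G ⧸ H)) = 1 :=
    Nat.card_eq_one_iff_unique.2 ⟨MulAction.pretransitive_iff_subsingleton_quotient G (G ⧸ H) |>.1
      inferInstance, ⟨Quotient.mk'' ((1 : G) : G ⧸ H)⟩⟩
  rw [horb, one_mul] at hsum
  have hlt : ∑ _g : G, 1 < ∑ g : G, Nat.card (MulAction.fixedBy (G ⧸ H) g) := by
    refine Finset.sum_lt_sum (fun g _ => hone g) ⟨1, Finset.mem_univ _, ?_⟩
    rw [show MulAction.fixedBy (G ⧸ H) (1 : G) = Set.univ from Set.eq_univ_of_forall (one_smul G), Nat.card_congr (Equiv.Set.univ _)]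
    exact lt_of_le_of_ne (Nat.one_le_iff_ne_zero.2 H.index_ne_zero_of_finite)
      (fun h1 => hne (Subgroup.index_eq_one.1 h1.symm))
  rw [hsum] at hlt
  simp [Nat.card_eq_fintype_card] at hlt

/-- A subgroup of index prime to `p` contains a Sylow `p`-subgroup of the whole group through
any given `p`-subgroup of it. -/
theorem exists_sylow_le {p : ℕ} [Fact p.Prime] {H Q : Subgroup G} (hH : ¬ p ∣ H.index)
    (hQ : IsPGroup p Q) (hQH : Q ≤ H) : ∃ S : Sylow p G, Q ≤ S ∧ (S : Subgroup G) ≤ H := by
  obtain ⟨R, hR⟩ := (IsPGroup.of_equiv hQ (Subgroup.subgroupOfEquivOfLe hQH).symm).exists_le_sylow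
  have hcard : Nat.card ((R : Subgroup H).map H.subtype) = p ^ (Nat.card G).factorization p := by
    rw [Subgroup.card_map_of_injective H.subtype_injective, R.card_eq_multiplicity]
    congr 1
    rw [← H.card_mul_index, Nat.factorization_mul Nat.card_pos.ne' H.index_ne_zero_of_finite,
      Finsupp.add_apply, Nat.factorization_eq_zero_of_not_dvd hH, add_zero]
  refine ⟨Sylow.ofCard _ hcard, ?_, ?_⟩
  · rw [Sylow.coe_ofCard]
    intro x hx
    exact ⟨⟨x, hQH hx⟩, hR hx, rfl⟩
  · rw [Sylow.coe_ofCard]
    exact Subgroup.map_subtype_le _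

end CfsgLib.GroupBasics
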