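import Cfsg.Agent.Coprime.SchurZassenhaus
import Mathlib.GroupTheory.OrderOfElement
import Mathlib.GroupTheory.Solvable
import Mathlib.GroupTheory.SpecificGroups.Cyclic
import Mathlib.RingTheory.Coprime.Lemmas
import Mathlib.Tactic.LinearCombination
import Mathlib.Tactic.Ring

/-!
# Lifting elements and their normalizers through a quotient of coprime order

* `exists_lift_orderOf_eq`: an element of order prime to `#N` of `G ⧸ N` lifts with the same order.
* `exists_mem_normalizer_lift`: normalizers of such cyclic subgroups lift.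
-/

set_option autoImplicit false

namespace CfsgLib.GroupBasics

open scoped Pointwise

variable {G : Type*} [Group G] [Finite G] {N : Subgroup G} [N.Normal]

/-- An element of order prime to `#N` of the quotient by `N` has a lift of the same order. -/
theorem exists_lift_orderOf_eq (y : G ⧸ N) (hy : (Nat.card N).Coprime (orderOf y)) :
    ∃ x : G, (x : G ⧸ N) = y ∧ orderOf x = orderOf y := by
  obtain ⟨x₀, rfl⟩ := QuotientGroup.mk_surjective y
  set d := orderOf (x₀ : G ⧸ N) with hd
  obtain ⟨t, ht⟩ : ∃ t : ℤ, (d : ℤ) ∣ (Nat.card N : ℤ) * t - 1 := by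
    obtain ⟨a, b, hab⟩ := Nat.isCoprime_iff_coprime.2 hy
    exact ⟨a, -b, by linear_combination hab⟩
  have himg : ((x₀ ^ ((Nat.card N : ℤ) * t) : G) : G ⧸ N) = x₀ := by
    obtain ⟨j, hj⟩ := ht
    rw [QuotientGroup.mk_zpow, show (Nat.card N : ℤ) * t = 1 + (d : ℤ) * j by linear_combination hj,
      zpow_add, zpow_one, zpow_mul, zpow_natCast, hd, pow_orderOf_eq_one, one_zpow, mul_one]
  refine ⟨_, himg, Nat.dvd_antisymm ?_ ?_⟩
  · rw [orderOf_dvd_iff_pow_eq_one, ← zpow_natCast, ← zpow_mul]
    have hmem : x₀ ^ d ∈ N := by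
      rw [← QuotientGroup.eq_one_iff, QuotientGroup.mk_pow, hd, pow_orderOf_eq_one]
    rw [show (Nat.card N : ℤ) * t * (d : ℤ) = (d : ℤ) * (Nat.card N : ℤ) * t by ring, zpow_mul,
      zpow_mul, zpow_natCast, zpow_natCast]
    have := congrArg Subtype.val (pow_card_eq_one' (x := (⟨_, hmem⟩ : N)))
    simp only [SubmonoidClass.coe_pow, OneMemClass.coe_one] at this
    rw [this, one_zpow]
  · conv_lhs => rw [hd, ← himg]
    exact orderOf_map_dvd (QuotientGroup.mk' N) _

/-- Frattini argument for cyclic subgroups of order prime to `#N`: an element normalizing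
`⟨x̄⟩` in the quotient has a representative normalizing `⟨x⟩`. -/
theorem exists_mem_normalizer_lift {x g : G} (hx : (Nat.card N).Coprime (orderOf x))
    (hg : (g : G ⧸ N) ∈ Subgroup.normalizer
      ((Subgroup.zpowers (x : G ⧸ N) : Subgroup (G ⧸ N)) : Set (G ⧸ N))) :
    ∃ g' : G, (g' : G ⧸ N) = g ∧
      g' ∈ Subgroup.normalizer ((Subgroup.zpowers x : Subgroup G) : Set G) := by
  set H := Subgroup.zpowers x with hH
  have hcard : Nat.card H = orderOf x := Nat.card_zpowers x
  have hmap : (MulAut.conj g • H).map (QuotientGroup.mk' N) = H.map (QuotientGroup.mk' N) := by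
    rw [hH, MonoidHom.map_zpowers]
    show ((Subgroup.zpowers x).map (MulAut.conj g).toMonoidHom).map (QuotientGroup.mk' N) = _
    rw [Subgroup.map_map, MonoidHom.map_zpowers]
    refine le_antisymm (Subgroup.zpowers_le.2 ?_) (Subgroup.zpowers_le.2 ?_)
    · exact (Subgroup.mem_normalizer_iff.1 hg _).1 (Subgroup.mem_zpowers _)
    · have h := (Subgroup.mem_normalizer_iff.1
        ((Subgroup.normalizer _).inv_mem hg) _).1 (Subgroup.mem_zpowers (x : G ⧸ N))
      obtain ⟨k, hk⟩ := Subgroup.mem_zpowers_iff.1 h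
      refine Subgroup.mem_zpowers_iff.2 ⟨k, ?_⟩
      show ((MulAut.conj g x : G) : G ⧸ N) ^ k = x
      simp only [MulAut.conj_apply, QuotientGroup.mk_mul, QuotientGroup.mk_inv]
      rw [conj_zpow, hk]
      group
  obtain ⟨n, hn, hnH⟩ := CfsgLib.Coprime.exists_conj_eq_of_sup_eq (N := N) (H := H)
    (K := MulAut.conj g • H) Subgroup.le_normalizer_of_normal Subgroup.le_normalizer_of_normal
    (by rwa [hcard]) (Subgroup.card_map_of_injective (MulAut.conj g).injective)
    (by
      have h := congrArg (Subgroup.comap (QuotientGroup.mk' N)) hmap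
      rw [Subgroup.comap_map_eq, Subgroup.comap_map_eq, QuotientGroup.ker_mk'] at h
      rw [sup_comm, ← h, sup_comm])
    (Or.inr (Group.isSolvable_of_comm fun a b => mul_comm' a b))
  refine ⟨n⁻¹ * g, ?_, ?_⟩
  · rw [QuotientGroup.mk_mul, QuotientGroup.mk_inv, (QuotientGroup.eq_one_iff n).2 hn, inv_one,
      one_mul]
  · rw [CfsgLib.Coprime.mem_normalizer_iff_conj_smul_eq, map_mul, mul_smul, ← hnH, smul_smul,
      ← map_mul, inv_mul_cancel, map_one, one_smul]

end CfsgLib.GroupBasics
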