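import Cfsg.Agent.GroupBasics.Conjugates
import Cfsg.Agent.LocalStructure.Elements

/-!
# Elements dominated by an abelian Hall subgroup

* `exists_conj_mem_of_abelian_hall`: an element whose order is prime to the index of a commutative
  Hall subgroup `H` is conjugate into `H` (no solvability hypothesis).
-/

set_option autoImplicit false

namespace CfsgLib.GroupBasics

open scoped Pointwise

variable {G : Type*} [Group G] [Finite G]

/-- An element whose order is prime to the index of a commutative subgroup `H` of order prime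
to its index is conjugate into `H`, by an element of any subgroup containing both. -/
theorem exists_conj_mem_of_abelian_hall {H : Subgroup G} [IsMulCommutative H]
    (hH : ∀ q : ℕ, q.Prime → q ∣ Nat.card H → ¬ q ∣ H.index) :
    ∀ (x : G) (C : Subgroup G), H ≤ C → x ∈ C →
      (∀ q : ℕ, q.Prime → q ∣ orderOf x → ¬ q ∣ H.index) →
      ∃ c ∈ C, c * x * c⁻¹ ∈ H := by
  intro x
  induction hn : orderOf x using Nat.strong_induction_on generalizing x with
  | _ n ih =>
    intro C hHC hxC hx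
    subst hn
    by_cases hx1 : orderOf x = 1
    · exact ⟨1, C.one_mem, by simp [orderOf_eq_one_iff.1 hx1, H.one_mem]⟩
    obtain ⟨q, hq, hqx⟩ := Nat.exists_prime_and_dvd hx1
    haveI : Fact q.Prime := ⟨hq⟩
    obtain ⟨a, b, ⟨i, hi⟩, ⟨j, hj⟩, ⟨k, hak⟩, hbq, rfl⟩ :=
      CfsgLib.LocalStructure.exists_pPart_mul (p := q) x
    set x := a * b with hxdef
    have haC : a ∈ C := hi ▸ C.zpow_mem hxC i
    have hbC : b ∈ C := hj ▸ C.zpow_mem hxC j
    have hab : Commute a b := by rw [← hi, ← hj]; exact Commute.zpow_zpow (Commute.refl x) i j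
    have hbdvd : orderOf b ∣ orderOf x := orderOf_dvd_of_mem_zpowers ⟨j, hj⟩
    have hblt : orderOf b < orderOf x := by
      refine lt_of_le_of_ne (Nat.le_of_dvd (orderOf_pos x) hbdvd) fun h => ?_
      rw [h] at hbq
      exact (hq.coprime_iff_not_dvd.1 hbq.symm) hqx
    -- move the q-part into a Sylow subgroup of `C` contained in `H`
    have hidx : ¬ q ∣ (H.subgroupOf C).index := fun h =>
      hx q hq hqx (h.trans (Subgroup.relIndex_dvd_index_of_le hHC))
    obtain ⟨S, -, hS⟩ := exists_sylow_le (G := C) hidx (IsPGroup.of_bot (p := q)) bot_le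
    have haP : IsPGroup q (Subgroup.zpowers (⟨a, haC⟩ : C)) :=
      IsPGroup.of_card (n := k) (by rw [Nat.card_zpowers, Subgroup.orderOf_mk, hak])
    obtain ⟨T, hT⟩ := haP.exists_le_sylow
    obtain ⟨c₁, hc₁⟩ := MulAction.exists_smul_eq C T S
    have ha' : (c₁ : G) * a * (c₁ : G)⁻¹ ∈ H := by
      have h1 : MulAut.conj c₁ • (⟨a, haC⟩ : C) ∈ (S : Subgroup C) := by
        rw [← hc₁, Sylow.coe_subgroup_smul, Subgroup.smul_mem_pointwise_smul_iff]
        exact hT (Subgroup.mem_zpowers _)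
      simpa [Subgroup.mem_subgroupOf, MulAut.smul_def] using hS h1
    set a' := (c₁ : G) * a * (c₁ : G)⁻¹ with ha'def
    set b' := (c₁ : G) * b * (c₁ : G)⁻¹ with hb'def
    have hob : orderOf b' = orderOf b :=
      orderOf_injective (MulAut.conj (c₁ : G)).toMonoidHom (MulAut.conj (c₁ : G)).injective b
    obtain ⟨c₂, hc₂, hc₂b⟩ := ih (orderOf b) hblt b' hob (C ⊓ Subgroup.centralizer ({a'} : Set G))
      (le_inf hHC fun h hh => Subgroup.mem_centralizer_singleton_iff.2
        (congrArg Subtype.val (mul_comm' (⟨h, hh⟩ : H) ⟨a', ha'⟩)))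
      (Subgroup.mem_inf.2 ⟨C.mul_mem (C.mul_mem c₁.2 hbC) (C.inv_mem c₁.2),
        Subgroup.mem_centralizer_singleton_iff.2 (((hab.symm).map (MulAut.conj (c₁ : G))).eq)⟩)
      (fun r hr hd => hx r hr (hd.trans hbdvd))
    obtain ⟨hc₂C, hc₂a⟩ := Subgroup.mem_inf.1 hc₂
    refine ⟨c₂ * c₁, C.mul_mem hc₂C c₁.2, ?_⟩
    have : c₂ * (c₁ : G) * x * (c₂ * (c₁ : G))⁻¹ = c₂ * a' * c₂⁻¹ * (c₂ * b' * c₂⁻¹) := by
      rw [hxdef, ha'def, hb'def]; group
    rw [this, Subgroup.mem_centralizer_singleton_iff.1 hc₂a, mul_inv_cancel_right]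
    exact H.mul_mem ha' hc₂b

end CfsgLib.GroupBasics
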