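import Cfsg.Agent.GroupBasics.Conjugates
import Cfsg.Agent.Coprime.Action
import Cfsg.Agent.LocalStructure.Elements

/-!
# π-closed extensions of homogeneous groups

A group is π-closed when its π-elements form a subgroup. `PiHomog π G` says that a π-element
normalizing a π′-subgroup centralizes it.

* `piHomog_of_relIndex`, `not_dvd_relIndex_of_closed`: translations to indices `|N(H) : C(H)|`.
* `piClosed_extension`: in a homogeneous group an extension of π-closed by π-closed is π-closed.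
-/

set_option autoImplicit false
set_option linter.style.haveILetI false

namespace CfsgLib.GroupBasics

open scoped Pointwise

variable (π : Set ℕ)

/-- All prime divisors of `n` lie in `π`. -/
def PiNum (n : ℕ) : Prop := ∀ p : ℕ, p.Prime → p ∣ n → p ∈ π

/-- The π-elements form a subgroup. -/
def PiClosed (G : Type*) [Group G] : Prop :=
  ∃ K : Subgroup G, ∀ x : G, x ∈ K ↔ PiNum π (orderOf x)

/-- π-elements normalizing a π′-subgroup centralize it. -/
def PiHomog (G : Type*) [Group G] : Prop :=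
  ∀ H : Subgroup G, (∀ p : ℕ, p.Prime → p ∣ Nat.card H → p ∉ π) →
    ∀ a ∈ Subgroup.normalizer (H : Set G), PiNum π (orderOf a) →
      a ∈ Subgroup.centralizer (H : Set G)

variable {π} {G : Type*} [Group G]

theorem piNum_of_dvd {a b : ℕ} (h : PiNum π b) (hab : a ∣ b) : PiNum π a :=
  fun p hp hd => h p hp (hd.trans hab)

theorem piNum_mul {a b : ℕ} (ha : PiNum π a) (hb : PiNum π b) : PiNum π (a * b) :=
  fun p hp hd => (hp.dvd_mul.1 hd).elim (ha p hp) (hb p hp)

theorem coprime_of_piNum {a b : ℕ} (ha : PiNum π a) (hb : ∀ p : ℕ, p.Prime → p ∣ b → p ∉ π) :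
    a.Coprime b :=
  Nat.coprime_of_dvd fun p hp h1 h2 => hb p hp h2 (ha p hp h1)

theorem piNum_prime_pow {p : ℕ} (hp : p.Prime) (hpπ : p ∈ π) (k : ℕ) : PiNum π (p ^ k) :=
  fun _q hq hd => (Nat.prime_dvd_prime_iff_eq hq hp).1 (hq.dvd_of_dvd_pow hd) ▸ hpπ

/-- `C(H)` is normal in `N(H)`. -/
theorem centralizer_subgroupOf_normal (H : Subgroup G) :
    ((Subgroup.centralizer (H : Set G)).subgroupOf (Subgroup.normalizer (H : Set G))).Normal := by
  refine ⟨fun c hc a => ?_⟩
  rw [Subgroup.mem_subgroupOf] at hc ⊢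
  rw [Subgroup.mem_centralizer_iff] at hc ⊢
  intro s hs
  simp only [Subgroup.coe_mul, InvMemClass.coe_inv]
  have hs' : (a : G)⁻¹ * s * a ∈ H := by
    simpa using (Subgroup.mem_normalizer_iff.1 ((Subgroup.normalizer _).inv_mem a.2) s).1 hs
  calc s * (a * c * (a : G)⁻¹) = a * (((a : G)⁻¹ * s * a) * c) * (a : G)⁻¹ := by group
    _ = a * ((c : G) * ((a : G)⁻¹ * s * a)) * (a : G)⁻¹ := by rw [hc _ hs']
    _ = _ := by group

theorem piHomog_of_relIndex
    (h : ∀ H : Subgroup G, H ≠ ⊥ → (∀ p : ℕ, p.Prime → p ∣ Nat.card H → p ∉ π) →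
      ∀ p : ℕ, p.Prime → p ∣ (Subgroup.centralizer (H : Set G)).relIndex
        (Subgroup.normalizer (H : Set G)) → p ∉ π) : PiHomog π G := by
  intro H hH a ha hap
  by_cases hb : H = ⊥
  · subst hb
    exact Subgroup.mem_centralizer_iff.2 fun s hs => by simp [Subgroup.mem_bot.1 hs]
  set C := (Subgroup.centralizer (H : Set G)).subgroupOf (Subgroup.normalizer (H : Set G))
  haveI := centralizer_subgroupOf_normal H
  have hcop : (orderOf a).Coprime C.index := coprime_of_piNum hap (h H hb hH)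
  have hmem : (⟨a, ha⟩ : Subgroup.normalizer (H : Set G)) ^ C.index ∈ C := C.pow_index_mem _
  rw [Subgroup.mem_subgroupOf, SubmonoidClass.coe_pow] at hmem
  obtain ⟨u, v, huv⟩ := Nat.isCoprime_iff_coprime.2 hcop
  have : a = (a ^ C.index) ^ v := by
    rw [← zpow_natCast, ← zpow_mul]
    conv_lhs => rw [← zpow_one a, ← huv, zpow_add, zpow_mul', zpow_natCast a (orderOf a),
      pow_orderOf_eq_one, one_zpow, one_mul]
    rw [mul_comm]
  rw [this]
  exact Subgroup.zpow_mem _ hmem v

theorem piHomog_subgroup (h : PiHomog π G) (M : Subgroup G) : PiHomog π M := by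
  intro H hH a ha hap
  have hcard : Nat.card (H.map M.subtype) = Nat.card H :=
    Subgroup.card_map_of_injective M.subtype_injective
  have ha' : (a : G) ∈ Subgroup.normalizer ((H.map M.subtype : Subgroup G) : Set G) :=
    Subgroup.le_normalizer_map M.subtype ⟨a, ha, rfl⟩
  have := Subgroup.mem_centralizer_iff.1 (h _ (hcard ▸ hH) _ ha' (by rwa [Subgroup.orderOf_coe]))
  exact Subgroup.mem_centralizer_iff.2 fun s hs => Subtype.ext (this _ ⟨s, hs, rfl⟩)

variable [Finite G]

/-- If every element of `N` of `p`-power order is in `C`, the index is prime to `p`. -/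
theorem not_dvd_relIndex_of_forall {p : ℕ} [Fact p.Prime] {C N : Subgroup G}
    (h : ∀ a ∈ N, (∃ k, orderOf a = p ^ k) → a ∈ C) : ¬ p ∣ C.relIndex N := by
  intro hd
  let P : Sylow p N := default
  refine P.not_dvd_index (hd.trans (Subgroup.index_dvd_of_le (H := (P : Subgroup N)) fun a ha => ?_))
  obtain ⟨k, hk⟩ := P.2 ⟨a, ha⟩
  have hk' : (a : N) ^ p ^ k = 1 := congrArg Subtype.val hk
  obtain ⟨j, -, hj⟩ := (Nat.dvd_prime_pow (Fact.out : p.Prime)).1 (orderOf_dvd_of_pow_eq_one hk')
  exact Subgroup.mem_subgroupOf.2 (h a a.2 ⟨j, by rw [Subgroup.orderOf_coe, hj]⟩)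

/-- The subgroup of π-elements is normal. -/
theorem normal_of_closed {K : Subgroup G} (hK : ∀ x : G, x ∈ K ↔ PiNum π (orderOf x)) : K.Normal :=
  ⟨fun x hx g => (hK _).2 (by
    rw [show orderOf (g * x * g⁻¹) = orderOf x from
      orderOf_injective (MulAut.conj g).toMonoidHom (MulAut.conj g).injective x]
    exact (hK x).1 hx)⟩

/-- A prime dividing `#(G ⧸ N)` gives an element of prime power order outside `N`. -/
theorem exists_primary_not_mem {p : ℕ} [Fact p.Prime] (N : Subgroup G) [N.Normal]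
    (hd : p ∣ Nat.card (G ⧸ N)) : ∃ a : G, (∃ k, orderOf a = p ^ k) ∧ a ∉ N := by
  by_contra hno
  push Not at hno
  refine not_dvd_relIndex_of_forall (C := N) (N := (⊤ : Subgroup G))
    (fun a _ ha => hno a ha) ?_
  rwa [Subgroup.relIndex_top_right]

/-- The order and index of the subgroup of π-elements. -/
theorem card_of_closed {K : Subgroup G} (hK : ∀ x : G, x ∈ K ↔ PiNum π (orderOf x)) :
    PiNum π (Nat.card K) ∧ ∀ p : ℕ, p.Prime → p ∣ K.index → p ∉ π := by
  constructor
  · intro p hp hd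
    haveI : Fact p.Prime := ⟨hp⟩
    obtain ⟨⟨x, hxK⟩, hx⟩ := exists_prime_orderOf_dvd_card' p hd
    rw [Subgroup.orderOf_mk] at hx
    exact (hK x).1 hxK p hp (hx ▸ dvd_rfl)
  · intro p hp hd hpπ
    haveI : Fact p.Prime := ⟨hp⟩
    haveI := normal_of_closed hK
    obtain ⟨a, ⟨k, hk⟩, ha⟩ := exists_primary_not_mem K hd
    exact ha ((hK a).2 (hk ▸ piNum_prime_pow hp hpπ k))

theorem piClosed_congr {H : Type*} [Group H] (e : G ≃* H) (h : PiClosed π G) : PiClosed π H := by
  obtain ⟨K, hK⟩ := h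
  refine ⟨K.map e.toMonoidHom, fun x => ?_⟩
  rw [Subgroup.mem_map_equiv, hK, MulEquiv.orderOf_eq]

/-- π-numbers and π′-numbers give closed groups. -/
theorem piClosed_of_card
    (h : PiNum π (Nat.card G) ∨ ∀ p : ℕ, p.Prime → p ∣ Nat.card G → p ∉ π) : PiClosed π G := by
  rcases h with h | h
  · exact ⟨⊤, fun x => iff_of_true (Subgroup.mem_top x) (piNum_of_dvd h (orderOf_dvd_natCard x))⟩
  · refine ⟨⊥, fun x => ⟨fun hx => ?_, fun hx => ?_⟩⟩
    · rw [Subgroup.mem_bot.1 hx, orderOf_one]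
      exact fun p hp hd => absurd (Nat.dvd_one.1 hd) hp.ne_one
    · rw [Subgroup.mem_bot, ← orderOf_eq_one_iff]
      exact Nat.eq_one_of_dvd_coprimes (coprime_of_piNum hx h) dvd_rfl (orderOf_dvd_natCard x)

/-- In a homogeneous group a primary π-element acts trivially on a π′-section `K/L` of normal
subgroups. -/
theorem map_commute_of_homog (hG : PiHomog π G) {L K : Subgroup G} [L.Normal] [K.Normal]
    (hKL : ∀ p : ℕ, p.Prime → p ∣ Nat.card (K.map (QuotientGroup.mk' L)) → p ∉ π)
    {q : ℕ} [Fact q.Prime] (hq : q ∈ π) {x : G} {i : ℕ} (hx : orderOf x = q ^ i)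
    {k : G} (hk : k ∈ K) : (k : G ⧸ L) * x = x * k := by
  classical
  let f := QuotientGroup.mk' L
  let Kb := K.map f
  haveI : Kb.Normal := (inferInstance : K.Normal).map f (QuotientGroup.mk'_surjective L)
  let C := Subgroup.centralizer ({f x} : Set (G ⧸ L)) ⊓ Kb
  suffices hC : C = Kb by
    have : f k ∈ C := hC ▸ Subgroup.mem_map_of_mem f hk
    exact Subgroup.mem_centralizer_singleton_iff.1 (Subgroup.mem_inf.1 this).1
  refine le_antisymm inf_le_right (Subgroup.relIndex_eq_one.1 ?_)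
  by_contra hne
  obtain ⟨r, hr, hrd⟩ := Nat.exists_prime_and_dvd hne
  haveI : Fact r.Prime := ⟨hr⟩
  have hrπ : r ∉ π := hKL r hr (hrd.trans (Subgroup.relIndex_dvd_card _ _))
  have hfx : orderOf (f x) ∣ q ^ i := hx ▸ orderOf_map_dvd f x
  -- an invariant Sylow subgroup of the section
  obtain ⟨P, hP⟩ := CfsgLib.Coprime.exists_invariant_sylow (G := Kb) (A := Subgroup.zpowers (f x))
    Subgroup.le_normalizer_of_normal
    (by
      rw [Nat.card_zpowers]
      exact coprime_of_piNum (piNum_of_dvd (piNum_prime_pow (Fact.out : q.Prime) hq i) hfx) hKL)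
    (Or.inl (Group.isSolvable_of_comm fun a b => mul_comm' a b)) r
  let Sb := (P : Subgroup Kb).map Kb.subtype
  let W := Sb.comap f
  let S : Sylow r W := default
  have hWnorm : x ∈ Subgroup.normalizer (W : Set G) := by
    rw [Subgroup.mem_normalizer_iff]
    intro y
    simp only [W, Subgroup.mem_comap, map_mul, map_inv]
    exact Subgroup.mem_normalizer_iff.1 (hP (Subgroup.mem_zpowers _)) (f y)
  let S' : Subgroup G := (S : Subgroup W).map W.subtype
  have hS'W : S' ≤ W := Subgroup.map_subtype_le _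
  have hS'r : IsPGroup r S' := S.2.map _
  -- S' covers the invariant Sylow subgroup
  have hcover : S'.map f = Sb := by
    refine le_antisymm ?_ fun y hy => ?_
    · rintro _ ⟨s, hs, rfl⟩
      exact hS'W hs
    · let g : W →* Sb := f.subgroupComap Sb
      have hg : Function.Surjective g :=
        f.subgroupComap_surjective_of_surjective Sb (QuotientGroup.mk'_surjective L)
      have hSb : IsPGroup r Sb := P.2.map _
      have htop : ((S.mapSurjective hg : Sylow r Sb) : Subgroup Sb) = ⊤ :=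
        ((S.mapSurjective hg).3 (hSb.to_subgroup ⊤) le_top).symm
      have hy' : (⟨y, hy⟩ : Sb) ∈ (S.mapSurjective hg : Sylow r Sb) := by
        rw [SetLike.mem_coe.symm]
        show (⟨y, hy⟩ : Sb) ∈ ((S.mapSurjective hg : Sylow r Sb) : Subgroup Sb)
        rw [htop]
        exact Subgroup.mem_top _
      obtain ⟨s, hs, hsy⟩ := hy'
      exact ⟨(s : G), ⟨s, hs, rfl⟩, congrArg Subtype.val hsy⟩
  -- a representative of `x̄` normalizing S'
  have hleW : MulAut.conj x • S' ≤ W := by
    rw [← CfsgLib.Coprime.conj_smul_eq_self hWnorm]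
    exact Subgroup.pointwise_smul_le_pointwise_smul_iff.2 hS'W
  have hcW : Nat.card ((MulAut.conj x • S').subgroupOf W) = r ^ (Nat.card W).factorization r := by
    rw [Nat.card_congr (Subgroup.subgroupOfEquivOfLe hleW).toEquiv,
      CfsgLib.Coprime.card_conj_smul, Subgroup.card_map_of_injective W.subtype_injective,
      S.card_eq_multiplicity]
  obtain ⟨w, hwW, hw⟩ := CfsgLib.Coprime.exists_conj_map_sylow S (Sylow.ofCard _ hcW)
  rw [Sylow.coe_ofCard, Subgroup.subgroupOf_map_subtype, inf_eq_left.2 hleW] at hw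
  obtain ⟨s, hs, hsw⟩ : f w ∈ S'.map f := hcover.symm ▸ hwW
  have hlL : w * s⁻¹ ∈ L := by
    rw [← QuotientGroup.eq_one_iff]
    show f (w * s⁻¹) = 1
    rw [map_mul, map_inv, hsw, mul_inv_cancel]
  have hlS : MulAut.conj (w * s⁻¹) • S' = MulAut.conj x • S' := by
    rw [map_mul, mul_smul, CfsgLib.Coprime.conj_smul_eq_self (Subgroup.le_normalizer (S'.inv_mem hs))]
    exact hw
  set z := (w * s⁻¹)⁻¹ * x with hz
  have hzN : z ∈ Subgroup.normalizer (S' : Set G) := by
    rw [CfsgLib.Coprime.mem_normalizer_iff_conj_smul_eq, hz, map_mul, mul_smul, ← hlS, smul_smul,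
      ← map_mul, inv_mul_cancel, map_one, one_smul]
  have hfz : f z = f x := by
    rw [hz, map_mul, map_inv, show f (w * s⁻¹) = 1 from (QuotientGroup.eq_one_iff _).2 hlL, inv_one,
      one_mul]
  obtain ⟨a, b, ⟨m, hm⟩, ⟨n, hn⟩, ⟨e, hae⟩, hbq, hab⟩ :=
    CfsgLib.LocalStructure.exists_pPart_mul (p := q) z
  have hfb : f b = 1 := by
    have hn' : b = z ^ n := hn.symm
    refine orderOf_eq_one_iff.1 (Nat.eq_one_of_dvd_coprimes (hbq.pow_right i) (orderOf_map_dvd f b) ?_)
    rw [hn', map_zpow, hfz]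
    exact (orderOf_dvd_of_mem_zpowers ⟨n, rfl⟩).trans hfx
  have hfa : f a = f x := by rw [← hfz, ← hab, map_mul, hfb, mul_one]
  obtain ⟨j, hj⟩ := IsPGroup.iff_card.1 hS'r
  have haC : a ∈ Subgroup.centralizer (S' : Set G) := by
    refine hG S' (fun p hp hd => ?_) a ?_ (hae ▸ piNum_prime_pow (Fact.out : q.Prime) hq e)
    · rwa [(Nat.prime_dvd_prime_iff_eq hp hr).1 (hp.dvd_of_dvd_pow (hj ▸ hd))]
    · rw [← hm]; exact Subgroup.zpow_mem _ hzN m
  -- so the full Sylow subgroup is centralized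
  have hSbC : Sb ≤ C := by
    refine le_inf ?_ (Subgroup.map_subtype_le _)
    rw [← hcover]
    rintro _ ⟨t, ht, rfl⟩
    rw [Subgroup.mem_centralizer_singleton_iff, ← hfa, ← map_mul, ← map_mul,
      Subgroup.mem_centralizer_iff.1 haC t ht]
  refine P.not_dvd_index (hrd.trans (Subgroup.index_dvd_of_le (H := (P : Subgroup Kb)) fun t ht => ?_))
  exact Subgroup.mem_subgroupOf.2 (hSbC ⟨t, ht, rfl⟩)


/-- An extension of π-closed by π-closed in a homogeneous group is π-closed. -/
theorem piClosed_extension (hG : PiHomog π G) (K : Subgroup G) [K.Normal] (hK : PiClosed π K)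
    (hQ : PiClosed π (G ⧸ K)) : PiClosed π G := by
  classical
  obtain ⟨L₀, hL₀⟩ := hK
  obtain ⟨M, hM⟩ := hQ
  haveI := normal_of_closed hM
  let L : Subgroup G := L₀.map K.subtype
  have hLmem : ∀ x : G, x ∈ L ↔ x ∈ K ∧ PiNum π (orderOf x) := by
    intro x
    constructor
    · rintro ⟨y, hy, rfl⟩
      exact ⟨y.2, by rw [Subgroup.coe_subtype, Subgroup.orderOf_coe]; exact (hL₀ y).1 hy⟩
    · rintro ⟨hx, hxo⟩
      exact ⟨⟨x, hx⟩, (hL₀ _).2 (by rwa [Subgroup.orderOf_mk]), rfl⟩
  haveI : L.Normal := ⟨fun x hx g => (hLmem _).2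
    ⟨(inferInstance : K.Normal).conj_mem x ((hLmem x).1 hx).1 g, by
      rw [show orderOf (g * x * g⁻¹) = orderOf x from
        orderOf_injective (MulAut.conj g).toMonoidHom (MulAut.conj g).injective x]
      exact ((hLmem x).1 hx).2⟩⟩
  have hLK : L ≤ K := Subgroup.map_subtype_le _
  set f := QuotientGroup.mk' L with hf
  have hKsec : ∀ p : ℕ, p.Prime → p ∣ Nat.card (K.map f) → p ∉ π := by
    intro p hp hd hpπ
    refine (card_of_closed hL₀).2 p hp ?_ hpπ
    have heq : L.subgroupOf K = L₀ := Subgroup.comap_map_eq_self_of_injective K.subtype_injective L₀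
    have hker : (f.subgroupMap K).ker = L.subgroupOf K := by
      ext y
      rw [MonoidHom.mem_ker, Subgroup.mem_subgroupOf, ← QuotientGroup.eq_one_iff, Subtype.ext_iff]
      rfl
    rw [← heq, ← hker, Subgroup.index_ker, MonoidHom.range_eq_top.2 (f.subgroupMap_surjective K),
      Nat.card_congr Subgroup.topEquiv.toEquiv]
    exact hd
  -- π-elements commute with the section
  have hcentral : ∀ x : G, PiNum π (orderOf x) → ∀ k ∈ K, f k * f x = f x * f k := by
    intro x
    induction hn : orderOf x using Nat.strong_induction_on generalizing x with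
    | _ n ih =>
      intro hx k hk
      subst hn
      by_cases hx1 : orderOf x = 1
      · simp [orderOf_eq_one_iff.1 hx1]
      obtain ⟨q, hq, hqx⟩ := Nat.exists_prime_and_dvd hx1
      haveI : Fact q.Prime := ⟨hq⟩
      obtain ⟨a, b, ⟨i, hi⟩, ⟨j, hj⟩, ⟨e, hae⟩, hbq, hab⟩ :=
        CfsgLib.LocalStructure.exists_pPart_mul (p := q) x
      have hbdvd : orderOf b ∣ orderOf x := orderOf_dvd_of_mem_zpowers ⟨j, hj⟩
      have hblt : orderOf b < orderOf x := by
        refine lt_of_le_of_ne (Nat.le_of_dvd (orderOf_pos x) hbdvd) fun h => ?_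
        rw [h] at hbq
        exact (hq.coprime_iff_not_dvd.1 hbq.symm) hqx
      have h1 : f k * f a = f a * f k := map_commute_of_homog hG hKsec (hx q hq hqx) hae hk
      have h2 := ih (orderOf b) hblt b rfl (piNum_of_dvd hx hbdvd) k hk
      rw [← hab, map_mul, ← mul_assoc, h1, mul_assoc, h2, mul_assoc]
  let Cs := (Subgroup.centralizer ((K.map f : Subgroup (G ⧸ L)) : Set (G ⧸ L))).comap f
  let D := Cs ⊓ M.comap (QuotientGroup.mk' K)
  have hπD : ∀ x : G, PiNum π (orderOf x) → x ∈ D := fun x hx => Subgroup.mem_inf.2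
    ⟨Subgroup.mem_comap.2 (Subgroup.mem_centralizer_iff.2 fun y hy => by
      obtain ⟨k, hk, rfl⟩ := hy
      exact hcentral x hx k hk),
    (hM _).2 (piNum_of_dvd hx (orderOf_map_dvd (QuotientGroup.mk' K) x))⟩
  set Db := D.map f with hDb
  set A := (K.map f).subgroupOf Db with hA
  haveI : (K.map f).Normal := (inferInstance : K.Normal).map f (QuotientGroup.mk'_surjective L)
  haveI : A.Normal := Subgroup.normal_subgroupOf
  have hAc : ∀ a ∈ A, ∀ d : Db, a * d = d * a := by
    intro a ha d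
    obtain ⟨g, hg, hgd⟩ := d.2
    apply Subtype.ext
    have := Subgroup.mem_centralizer_iff.1 (Subgroup.mem_comap.1 (Subgroup.mem_inf.1 hg).1) _
      (Subgroup.mem_subgroupOf.1 ha)
    rwa [hgd] at this
  have hAcard : ∀ p : ℕ, p.Prime → p ∣ Nat.card A → p ∉ π := fun p hp hd =>
    hKsec p hp (hd.trans (Subgroup.card_comap_dvd_of_injective _ Db.subtype Db.subtype_injective))
  have hAidx : PiNum π A.index := by
    intro p hp hd
    haveI : Fact p.Prime := ⟨hp⟩
    by_contra hpπ
    refine not_dvd_relIndex_of_forall (p := p) (C := A) (N := (⊤ : Subgroup Db)) (fun d _ hdord => ?_)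
      (by rwa [Subgroup.relIndex_top_right])
    obtain ⟨e, he⟩ := hdord
    obtain ⟨g, hg, hgd⟩ := d.2
    obtain ⟨a, b, ⟨i, hi⟩, ⟨j, hj⟩, ⟨e', hae⟩, hbq, hab⟩ :=
      CfsgLib.LocalStructure.exists_pPart_mul (p := p) g
    have hfb : f b = 1 := by
      refine orderOf_eq_one_iff.1 (Nat.eq_one_of_dvd_coprimes (hbq.pow_right e) (orderOf_map_dvd f b) ?_)
      rw [← hj, map_zpow, hgd]
      exact (orderOf_dvd_of_mem_zpowers ⟨j, rfl⟩).trans (by rw [Subgroup.orderOf_coe, he])
    have haK : a ∈ K := by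
      have haD : a ∈ D := hi ▸ D.zpow_mem hg i
      rw [← QuotientGroup.eq_one_iff, ← orderOf_eq_one_iff]
      exact Nat.eq_one_of_dvd_coprimes
        (coprime_of_piNum ((hM _).1 (Subgroup.mem_comap.1 (Subgroup.mem_inf.1 haD).2))
          (b := p ^ e') fun q hq hqd => by
            rwa [(Nat.prime_dvd_prime_iff_eq hq hp).1 (hq.dvd_of_dvd_pow hqd)])
        dvd_rfl (hae ▸ orderOf_map_dvd (QuotientGroup.mk' K) a)
    refine Subgroup.mem_subgroupOf.2 ⟨a, haK, ?_⟩
    rw [← hgd, ← hab, map_mul, hfb, mul_one]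
  obtain ⟨B, hB⟩ := Subgroup.exists_right_complement'_of_coprime (N := A)
    (coprime_of_piNum hAidx hAcard).symm
  have hBcard : PiNum π (Nat.card B) := hB.symm.index_eq_card ▸ hAidx
  haveI : B.Normal := by
    refine ⟨fun b hb d => ?_⟩
    obtain ⟨⟨⟨a, ha⟩, ⟨c, hc⟩⟩, rfl⟩ := hB.2 d
    have h1 : c * b * c⁻¹ ∈ B := B.mul_mem (B.mul_mem hc hb) (B.inv_mem hc)
    have : a * c * b * (a * c)⁻¹ = a * (c * b * c⁻¹) * a⁻¹ := by group
    show a * c * b * (a * c)⁻¹ ∈ B
    rw [this, hAc a ha, mul_inv_cancel_right]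
    exact h1
  refine ⟨(B.map Db.subtype).comap f, fun x => ⟨fun hx => ?_, fun hx => ?_⟩⟩
  · have h1 : PiNum π (orderOf (f x)) := by
      refine piNum_of_dvd hBcard ?_
      rw [← Subgroup.card_map_of_injective (K := B) Db.subtype_injective]
      exact Subgroup.orderOf_dvd_natCard _ hx
    have h2 : x ^ orderOf (f x) ∈ L := by
      rw [← QuotientGroup.eq_one_iff, QuotientGroup.mk_pow]
      exact pow_orderOf_eq_one _
    refine piNum_of_dvd (piNum_mul h1 ((hLmem _).1 h2).2) ?_
    rw [orderOf_dvd_iff_pow_eq_one, pow_mul, pow_orderOf_eq_one]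
  · refine ⟨⟨f x, Subgroup.mem_map_of_mem f (hπD x hx)⟩, ?_, rfl⟩
    obtain ⟨⟨⟨a, ha⟩, ⟨b, hb⟩⟩, hab⟩ := hB.2 ⟨f x, Subgroup.mem_map_of_mem f (hπD x hx)⟩
    simp only at hab
    set y : Db := ⟨f x, Subgroup.mem_map_of_mem f (hπD x hx)⟩
    have hy : PiNum π (orderOf y) := by
      rw [Subgroup.orderOf_mk]
      exact piNum_of_dvd hx (orderOf_map_dvd f x)
    have hA0 : orderOf a ∣ Nat.card B * orderOf y := by
      rw [orderOf_dvd_iff_pow_eq_one]
      have h3 : a = y * b⁻¹ := eq_mul_inv_of_mul_eq hab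
      have h4 : Commute y b⁻¹ := by
        show y * b⁻¹ = b⁻¹ * y
        rw [← hab, mul_inv_cancel_right, ← mul_assoc, ← hAc a ha, mul_assoc, inv_mul_cancel, mul_one]
      rw [h3, h4.mul_pow, mul_comm (Nat.card B), pow_mul, pow_orderOf_eq_one, one_pow, one_mul,
        mul_comm, pow_mul, orderOf_dvd_iff_pow_eq_one.1 (Subgroup.orderOf_dvd_natCard B (B.inv_mem hb)),
        one_pow]
    have ha1 : a = 1 := orderOf_eq_one_iff.1 (Nat.eq_one_of_dvd_coprimes
      (coprime_of_piNum (piNum_mul hBcard hy) hAcard) hA0 (Subgroup.orderOf_dvd_natCard A ha))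
    rw [SetLike.mem_coe, ← hab, ha1, one_mul]
    exact hb

/-- A group with a normal series whose factors are π- or π′-numbers is π-closed when
homogeneous. -/
theorem piClosed_of_series (hG : PiHomog π G) {n : ℕ} (H : Fin (n + 1) → Subgroup G)
    (h0 : H 0 = ⊥) (hlast : H (Fin.last n) = ⊤) (hmono : Monotone H) (hn : ∀ i, (H i).Normal)
    (hfac : ∀ i : Fin n, PiNum π ((H i.castSucc).relIndex (H i.succ)) ∨
      ∀ p : ℕ, p.Prime → p ∣ (H i.castSucc).relIndex (H i.succ) → p ∉ π) : PiClosed π G := by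
  suffices ∀ i : Fin (n + 1), PiClosed π (H i) by
    exact piClosed_congr ((MulEquiv.subgroupCongr hlast).trans Subgroup.topEquiv) (this _)
  intro i
  induction i using Fin.induction with
  | zero =>
    refine piClosed_of_card (Or.inl ?_)
    rw [h0, Subgroup.card_bot]
    exact fun p hp hd => absurd (Nat.dvd_one.1 hd) hp.ne_one
  | succ i ih =>
    haveI := hn i.castSucc
    haveI : ((H i.castSucc).subgroupOf (H i.succ)).Normal := Subgroup.normal_subgroupOf
    refine piClosed_extension (piHomog_subgroup hG _) ((H i.castSucc).subgroupOf (H i.succ))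
      (piClosed_congr (Subgroup.subgroupOfEquivOfLe (hmono i.castSucc_le_succ)).symm ih) ?_
    exact piClosed_of_card (hfac i)

end CfsgLib.GroupBasics
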