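import Cfsg.Agent.Characters.Classes
import Cfsg.Agent.Characters.Linear
import Cfsg.Agent.Characters.Integrality
import Cfsg.Agent.Indicator.Basic
import Cfsg.Agent.Solvable.Frattini

/-!
# Real linear characters of 2-groups and the involution count

* `card_signHom`: a 2-group has `#(G/Φ(G))` homomorphisms with values `±1`.
* `card_sq_eq_one_eq_sum`: `#{x | x ^ 2 = 1}` is the sum of indicator times degree.
* `two_pow_dvd_card_sq_eq_one`: it is divisible by `2 ^ (k+1)` when `#(G/Φ(G)) ≥ 2 ^ (2k+1)`.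
-/

set_option autoImplicit false
set_option linter.style.haveILetI false

namespace CfsgLib.GroupBasics

open scoped ComplexConjugate

universe u

variable {G : Type u} [Group G] [Finite G]

/-- The homomorphisms into `ℂˣ` with values `±1`. -/
def signHoms (G : Type u) [Group G] : Subgroup (G →* ℂˣ) where
  carrier := {f | ∀ g, f g * f g = 1}
  one_mem' := fun _ => by simp
  mul_mem' := fun {f f'} hf hf' g => by
    rw [MonoidHom.mul_apply, mul_mul_mul_comm, hf g, hf' g, one_mul]
  inv_mem' := fun {f} hf g => by rw [MonoidHom.inv_apply, ← mul_inv, hf g, inv_one]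

theorem signHom_val (f : signHoms G) (g : G) :
    ((f : G →* ℂˣ) g : ℂ) * ((f : G →* ℂˣ) g : ℂ) = 1 := by
  rw [← Units.val_mul, f.2 g, Units.val_one]

theorem signHom_conj (f : signHoms G) (g : G) :
    conj ((f : G →* ℂˣ) g : ℂ) = ((f : G →* ℂˣ) g : ℂ) := by
  rcases mul_self_eq_one_iff.1 (signHom_val f g) with h | h <;> rw [h] <;> simp

/-- A 2-group has `#(G/Φ(G))` sign homomorphisms. -/
theorem card_signHom (hG : IsPGroup 2 G) :
    Nat.card (signHoms G) = Nat.card (G ⧸ frattini G) := by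
  haveI : Fact (Nat.Prime 2) := ⟨Nat.prime_two⟩
  haveI hc : IsMulCommutative (G ⧸ frattini G) := ⟨⟨fun a b => by
    obtain ⟨x, rfl⟩ := QuotientGroup.mk_surjective a
    obtain ⟨y, rfl⟩ := QuotientGroup.mk_surjective b
    rw [← QuotientGroup.mk_mul, ← QuotientGroup.mk_mul, QuotientGroup.eq]
    refine CfsgLib.Solvable.commutator_le_frattini hG ?_
    rw [show (x * y)⁻¹ * (y * x) = y⁻¹ * x⁻¹ * (y⁻¹)⁻¹ * (x⁻¹)⁻¹ by group,
      ← commutatorElement_def, commutator_def]
    exact Subgroup.commutator_mem_commutator (Subgroup.mem_top _) (Subgroup.mem_top _)⟩⟩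
  letI : CommGroup (G ⧸ frattini G) := { (inferInstance : Group (G ⧸ frattini G)) with mul_comm := mul_comm' }
  haveI : Finite (G ⧸ frattini G) := Quotient.finite _
  haveI : NeZero (Monoid.exponent (G ⧸ frattini G) : ℂ) :=
    ⟨Nat.cast_ne_zero.2 Monoid.exponent_ne_zero_of_finite⟩
  rw [← CommGroup.card_monoidHom_of_hasEnoughRootsOfUnity (G ⧸ frattini G) ℂ]
  refine Nat.card_congr (Equiv.ofBijective
    (fun f : signHoms G => QuotientGroup.lift (frattini G) (f : G →* ℂˣ) ?_) ⟨?_, ?_⟩)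
  · refine CfsgLib.Solvable.frattini_le_of_elementary (p := 2) (fun x hx => ?_) fun x => ?_
    · exact Abelianization.commutator_subset_ker (f : G →* ℂˣ) hx
    · rw [MonoidHom.mem_ker, map_pow, pow_two]
      exact f.2 x
  · intro f f' h
    exact Subtype.ext (MonoidHom.ext fun g =>
      congrFun (congrArg DFunLike.coe h) (g : G ⧸ frattini G))
  · intro φ
    refine ⟨⟨φ.comp (QuotientGroup.mk' _), fun g => ?_⟩, ?_⟩
    · rw [MonoidHom.comp_apply, ← map_mul, ← map_mul, ← pow_two,
        (QuotientGroup.eq_one_iff _).2 (CfsgLib.Solvable.pow_mem_frattini hG g)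
          |> (fun h : QuotientGroup.mk' (frattini G) (g ^ 2) = 1 => h), map_one]
    · exact QuotientGroup.monoidHom_ext _ rfl

/-- The sum of indicator times degree counts the solutions of `x ^ 2 = 1`. -/
theorem card_sq_eq_one_eq_sum [Fintype G] :
    (Nat.card {x : G // x ^ 2 = 1} : ℂ) =
      ∑ χ : Cfsg.IrrCharacter G, CfsgLib.FSIndicator.nu (χ : G → ℂ) * (χ : G → ℂ) 1 := by
  classical
  simp only [CfsgLib.FSIndicator.nu, mul_assoc, Finset.sum_mul, ← Finset.mul_sum]
  rw [Finset.sum_comm, Finset.sum_congr rfl fun g _ => Finset.sum_congr rfl fun χ _ => mul_comm _ _]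
  simp only [CfsgLib.Characters.sum_degree_mul]
  rw [Finset.sum_ite, Finset.sum_const_zero, add_zero, Finset.sum_const, nsmul_eq_mul,
    mul_comm (Finset.card _ : ℂ), ← mul_assoc, inv_mul_cancel₀ CfsgLib.Characters.natCard_ne_zero, one_mul,
    Nat.card_eq_fintype_card, Fintype.card_subtype]
  congr 3
  ext g
  simp [pow_two]

/-- Twisting an irreducible character by a sign homomorphism. -/
theorem isIrr_twist (f : signHoms G) {χ : G → ℂ} (hχ : Cfsg.IsIrrCharacter G χ) :
    Cfsg.IsIrrCharacter G (fun g => ((f : G →* ℂˣ) g : ℂ) * χ g) := by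
  haveI := Fintype.ofFinite G
  refine CfsgLib.Characters.isIrr_of_classInner_self (CfsgLib.Characters.isCharacter_mul
    (CfsgLib.Characters.isCharacter_of_isIrr (CfsgLib.Characters.isIrr_linChar (f : G →* ℂˣ)))
    (CfsgLib.Characters.isCharacter_of_isIrr hχ)) ?_
  rw [← CfsgLib.Characters.classInner_isIrr_self hχ]
  simp only [Cfsg.classInner, map_mul, signHom_conj]
  congr 1
  refine Finset.sum_congr rfl fun g _ => ?_
  linear_combination (χ g * conj (χ g)) * signHom_val f g

noncomputable instance twistAction : MulAction (signHoms G) (Cfsg.IrrCharacter G) where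
  smul f χ := ⟨_, isIrr_twist f χ.2⟩
  one_smul χ := Subtype.ext (funext fun g => by
    show ((1 : G →* ℂˣ) g : ℂ) * (χ : G → ℂ) g = (χ : G → ℂ) g
    simp)
  mul_smul f f' χ := Subtype.ext (funext fun g => by
    show (((f : G →* ℂˣ) * f') g : ℂ) * (χ : G → ℂ) g =
      ((f : G →* ℂˣ) g : ℂ) * (((f' : G →* ℂˣ) g : ℂ) * (χ : G → ℂ) g)
    rw [MonoidHom.mul_apply, Units.val_mul, mul_assoc])

theorem twist_apply (f : signHoms G) (χ : Cfsg.IrrCharacter G) (g : G) :
    ((f • χ : Cfsg.IrrCharacter G) : G → ℂ) g = ((f : G →* ℂˣ) g : ℂ) * (χ : G → ℂ) g := rfl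

theorem twist_one (f : signHoms G) (χ : Cfsg.IrrCharacter G) :
    ((f • χ : Cfsg.IrrCharacter G) : G → ℂ) 1 = (χ : G → ℂ) 1 := by
  rw [twist_apply, map_one, Units.val_one, one_mul]

theorem twist_nu [Fintype G] (f : signHoms G) (χ : Cfsg.IrrCharacter G) :
    CfsgLib.FSIndicator.nu ((f • χ : Cfsg.IrrCharacter G) : G → ℂ) =
      CfsgLib.FSIndicator.nu (χ : G → ℂ) := by
  simp only [CfsgLib.FSIndicator.nu, twist_apply, map_mul, Units.val_mul, signHom_val, one_mul]

/-- At most `χ(1)^2` sign homomorphisms fix `χ`. -/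
theorem card_stabilizer_twist_le (χ : Cfsg.IrrCharacter G) {n : ℕ} (hn : (χ : G → ℂ) 1 = n) :
    Nat.card (MulAction.stabilizer (signHoms G) χ) ≤ n * n := by
  classical
  haveI := Fintype.ofFinite G
  set θ : G → ℂ := fun g => (χ : G → ℂ) g * conj ((χ : G → ℂ) g) with hθ
  have hθc : Cfsg.IsCharacter G θ := CfsgLib.Characters.isCharacter_mul
    (CfsgLib.Characters.isCharacter_of_isIrr χ.2)
    (CfsgLib.Characters.isCharacter_conj (CfsgLib.Characters.isCharacter_of_isIrr χ.2))
  obtain ⟨m, hm⟩ := CfsgLib.Characters.exists_nat_coeff hθc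
  let ι : MulAction.stabilizer (signHoms G) χ → Cfsg.IrrCharacter G := fun f =>
    ⟨fun g => (((f : signHoms G) : G →* ℂˣ) g : ℂ), CfsgLib.Characters.isIrr_linChar _⟩
  have hι : Function.Injective ι := fun f f' h => Subtype.ext (Subtype.ext (MonoidHom.ext fun g =>
    Units.ext (congrFun (congrArg Subtype.val h) g)))
  haveI : Fintype (MulAction.stabilizer (signHoms G) χ) :=
    Fintype.ofInjective ι hι
  have hone : ∀ f, m (ι f) = 1 := by
    intro f
    have h1 : Cfsg.classInner θ (ι f : G → ℂ) = (m (ι f) : ℂ) := by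
      rw [hm, CfsgLib.Characters.classInner_irr_coeff]
    have h2 : Cfsg.classInner θ (ι f : G → ℂ) = 1 := by
      rw [← CfsgLib.Characters.classInner_isIrr_self χ.2]
      simp only [Cfsg.classInner]
      congr 1
      refine Finset.sum_congr rfl fun g _ => ?_
      have hfix : (((f : signHoms G) : G →* ℂˣ) g : ℂ) * (χ : G → ℂ) g = (χ : G → ℂ) g :=
        (twist_apply (f : signHoms G) χ g).symm.trans
          (congrFun (congrArg Subtype.val (MulAction.mem_stabilizer_iff.1 f.2)) g)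
      show θ g * conj (((f : signHoms G) : G →* ℂˣ) g : ℂ) = _
      rw [signHom_conj, hθ]
      linear_combination conj ((χ : G → ℂ) g) * hfix
    exact_mod_cast h1.symm.trans h2
  have hdeg : ∀ ψ : Cfsg.IrrCharacter G, ∃ d : ℕ, (ψ : G → ℂ) 1 = d := fun ψ =>
    CfsgLib.Characters.exists_degree (CfsgLib.Characters.isCharacter_of_isIrr ψ.2)
  choose d hd using hdeg
  have hsum : (∑ ψ, m ψ * d ψ) = n * n := by
    have h := congrFun hm 1
    simp only [hθ] at h
    rw [hn, Complex.conj_natCast] at h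
    simp only [Finset.sum_apply, Pi.smul_apply, smul_eq_mul, hd] at h
    exact_mod_cast h.symm
  rw [← hsum, Nat.card_eq_fintype_card, ← Finset.card_univ,
    ← Finset.card_image_of_injective _ hι, Finset.card_eq_sum_ones]
  refine le_trans (Finset.sum_le_sum fun ψ hψ => ?_)
    (Finset.sum_le_sum_of_subset (Finset.subset_univ _))
  obtain ⟨f, -, rfl⟩ := Finset.mem_image.1 hψ
  have h1 : (d (ι f) : ℂ) = 1 := by rw [← hd]; simp [ι]
  rw [hone, one_mul]
  exact (Nat.cast_eq_one.1 h1).ge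

/-- The congruence for the number of solutions of `x ^ 2 = 1`. -/
theorem two_pow_dvd_card_sq_eq_one (hG : IsPGroup 2 G) {k : ℕ}
    (hk : 2 ^ (2 * k + 1) ≤ Nat.card (G ⧸ frattini G)) :
    2 ^ (k + 1) ∣ Nat.card {x : G // x ^ 2 = 1} := by
  classical
  haveI : Fact (Nat.Prime 2) := ⟨Nat.prime_two⟩
  haveI := Fintype.ofFinite G
  haveI : Finite (G ⧸ frattini G) := Quotient.finite _
  obtain ⟨N, hN⟩ := IsPGroup.iff_card.1 hG
  obtain ⟨D, hD⟩ := IsPGroup.iff_card.1 (hG.to_quotient (frattini G))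
  haveI : Finite (signHoms G) := Nat.finite_of_card_ne_zero (by
    rw [card_signHom hG, hD]; positivity)
  have hD1 : 2 * k + 1 ≤ D := (Nat.pow_le_pow_iff_right (by norm_num)).1 (hD ▸ hk)
  have hdeg : ∀ ψ : Cfsg.IrrCharacter G, ∃ a : ℕ, (ψ : G → ℂ) 1 = (2 ^ a : ℕ) := by
    intro ψ
    obtain ⟨n, ρ, hρ, hρc⟩ := ψ.2
    haveI := hρ
    have hdvd := CfsgLib.Characters.finrank_dvd_card ρ
    rw [hN] at hdvd
    obtain ⟨a, -, ha⟩ := (Nat.dvd_prime_pow Nat.prime_two).1 hdvd
    exact ⟨a, by rw [← hρc, Representation.char_one, ha]⟩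
  choose a ha using hdeg
  let e : Cfsg.IrrCharacter G → ℤ := fun ψ =>
    if CfsgLib.FSIndicator.nu (ψ : G → ℂ) = 1 then 1
    else if CfsgLib.FSIndicator.nu (ψ : G → ℂ) = -1 then -1 else 0
  have he : ∀ ψ : Cfsg.IrrCharacter G, CfsgLib.FSIndicator.nu (ψ : G → ℂ) = (e ψ : ℂ) := by
    intro ψ
    rcases CfsgLib.FSIndicator.nu_irr ψ with ⟨-, h | h⟩ | ⟨-, h⟩ <;> simp only [e, h] <;> norm_num
  have hcount : (Nat.card {x : G // x ^ 2 = 1} : ℤ) = ∑ ψ, e ψ * (2 ^ a ψ : ℕ) := by
    apply Int.cast_injective (α := ℂ)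
    rw [Int.cast_natCast, card_sq_eq_one_eq_sum, Int.cast_sum]
    refine Finset.sum_congr rfl fun ψ _ => ?_
    rw [he, ha, Int.cast_mul, Int.cast_natCast]
  rw [← Int.natCast_dvd_natCast, hcount,
    ← Finset.sum_fiberwise (s := Finset.univ)
      (Quotient.mk'' : Cfsg.IrrCharacter G → MulAction.orbitRel.Quotient (signHoms G) (Cfsg.IrrCharacter G))]
  refine Finset.dvd_sum fun o _ => ?_
  induction o using Quotient.inductionOn' with | _ χ =>
  rw [Finset.sum_congr rfl (g := fun _ => e χ * (2 ^ a χ : ℕ)) fun ψ hψ => ?_]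
  swap
  · obtain ⟨f, hf⟩ := MulAction.orbitRel_apply.1 (Quotient.eq''.1 (Finset.mem_filter.1 hψ).2)
    subst hf
    have h1 : e (f • χ) = e χ := Int.cast_injective (α := ℂ) (by rw [← he, ← he, twist_nu])
    have h2 : ((2 ^ a (f • χ) : ℕ) : ℂ) = (2 ^ a χ : ℕ) := by rw [← ha, ← ha, twist_one]
    simp only [h1, Nat.cast_inj.1 h2]
  rw [Finset.sum_const, nsmul_eq_mul]
  set t := (Finset.univ.filter fun ψ : Cfsg.IrrCharacter G =>
    (Quotient.mk'' ψ : MulAction.orbitRel.Quotient (signHoms G) (Cfsg.IrrCharacter G)) =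
      Quotient.mk'' χ).card with ht
  have horb : t = Nat.card (MulAction.orbit (signHoms G) χ) := by
    rw [ht, Nat.card_eq_fintype_card, ← Set.toFinset_card]
    congr 1
    ext ψ
    simp [Quotient.eq'', MulAction.orbitRel_apply]
  have hmul : t * Nat.card (MulAction.stabilizer (signHoms G) χ) = 2 ^ D := by
    rw [horb, ← hD, ← card_signHom hG, Nat.card_coe_set_eq, ← MulAction.index_stabilizer, mul_comm,
      Subgroup.card_mul_index]
  obtain ⟨s, hs, hst⟩ := (Nat.dvd_prime_pow Nat.prime_two).1 (Dvd.intro_left t hmul)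
  have hs2 : s ≤ a χ + a χ := by
    have := card_stabilizer_twist_le χ (ha χ)
    rw [hst, ← pow_add] at this
    exact (Nat.pow_le_pow_iff_right (by norm_num)).1 this
  have ht' : t = 2 ^ (D - s) := by
    rw [hst] at hmul
    rw [← Nat.pow_div hs (by norm_num), ← hmul, Nat.mul_div_cancel _ (by positivity)]
  have hdvd : (2 : ℤ) ^ (k + 1) ∣ (t : ℤ) * (2 ^ a χ : ℕ) := by
    rw [ht']
    push_cast
    rw [← pow_add]
    exact pow_dvd_pow 2 (by omega)
  push_cast at hdvd ⊢
  rw [mul_comm (e χ), ← mul_assoc]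
  exact dvd_mul_of_dvd_left hdvd _

end CfsgLib.GroupBasics
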